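import Groth.Agent.L24.St.InertiaSep
import Groth.Agent.L24.St.Chart
import Groth.Agent.L24.St.Desc
import Groth.Agent.L24.St.DiagRep
import Groth.Agent.L23.EtaleMono
import Groth.Agent.L23.FppfImmersion
import Groth.Agent.L09.FibInertia
import Mathlib.FieldTheory.IsAlgClosed.AlgebraicClosure

/-!
Rigidity of automorphisms: if the inertia is unramified, an automorphism that is trivial on all
geometric points is the identity.
-/

set_option autoImplicit false
set_option backward.isDefEq.respectTransparency false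
set_option backward.isDefEq.respectTransparency.types false

universe u

open CategoryTheory CategoryTheory.Limits AlgebraicGeometry Opposite AlgSt

noncomputable section

namespace Groth.L24.TrivStab

open Groth.L24.St

variable {S : Scheme.{u}} {𝒳 : AlgSt.Cat S}

/-- If the inertia is unramified, the neutral section is an open immersion. -/
theorem neutral_openImm
    (hI : RepByAlgSpWith (AlgSp.LocP (@LocallyOfFiniteType ⊓ @FormallyUnramified))
      (FibCat.inertiaToBase (FibCat.toSelf 𝒳))) :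
    RepByAlgSpWith (AlgSp.RepWith @IsOpenImmersion) (FibCat.inertiaNeutral (FibCat.toSelf 𝒳)) :=
  section_repWith _ (Iso.refl _) ((diag_repWith_iff_rep1 (pBase_repWith _) (descends_repWith _) (repWith_rep1 hI)).2
    fun V z => by
      obtain ⟨F, e, he, h1⟩ := hI V z
      exact ⟨F, e, he, Groth.L23.repWith_isOpenImmersion_diagonal_of_unramified F.property
        (AlgSp.IsAlgSpace.yon_obj V) h1⟩)

/-- A field point over a point of a scheme. -/
theorem ptOver_of_hom (T : Over S) (t : T.left) {K : Type u} [Field K]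
    (s : Spec (CommRingCat.of K) ⟶ S) (g : Over.mk s ⟶ T) (hg : g.left (IsLocalRing.closedPoint K) = t) :
    ptOver t = Points.mk ({ K := K, str := s, obj := Over.mk g, lies := rfl } : FPt (FibCat.overCat T)) := by
  rw [← ptOver_overPt (Points.mk _), overPt_mk]
  congr 1
  show t = (eqToHom (rfl : (Over.mk s : Over S) = Over.mk s) ≫ g).left (IsLocalRing.closedPoint K)
  rw [eqToHom_refl, Category.id_comp, hg]

/-- If the inertia is unramified, an automorphism trivial on all geometric points is the identity. -/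
theorem eq_id_of_geometric (hg : FibCat.IsFibGrpd 𝒳.p)
    (hI : RepByAlgSpWith (AlgSp.LocP (@LocallyOfFiniteType ⊓ @FormallyUnramified))
      (FibCat.inertiaToBase (FibCat.toSelf 𝒳)))
    (a : 𝒳.obj) (φ : a ⟶ a) (hφ : OverId φ)
    (H : ∀ (Ω : Type u) [Field Ω] [IsAlgClosed Ω] (s : Spec (CommRingCat.of Ω) ⟶ S) (b : 𝒳.obj),
      𝒳.p.obj b = Over.mk s → ∀ (m : b ⟶ a) (ψ : b ⟶ b), OverId ψ → ψ ≫ m = m ≫ φ → ψ = 𝟙 b) :
    φ = 𝟙 a := by
  have hlift : 𝒳.p.IsHomLift (𝟙 (𝒳.p.obj a)) φ := hφ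
  have := L09.Fib.isIso_of_isFibGrpd _ hg (𝟙 (𝒳.p.obj a)) φ
  have gI : FibCat.IsFibGrpd (FibCat.inertia (FibCat.toSelf 𝒳)).p :=
    L09.Fib.inertia_isFibGrpd hg (L09.Fib.isFibSet_id _).1
  let T := 𝒳.p.obj a
  let z : (FibCat.inertia (FibCat.toSelf 𝒳)).obj := ⟨a, asIso φ,
    (IsHomLift.eq_of_isHomLift 𝒳.p (𝟙 (𝒳.p.obj a)) φ).symm⟩
  obtain ⟨y, k, hk⟩ := exists_overCat_functor (U := T) gI z rfl
  have hT := overCat_isFibGrpd T
  let n := FibCat.inertiaNeutral (FibCat.toSelf 𝒳)
  have hsurj : IsSurjective (FibCat.fpFst y n) := by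
    intro q
    obtain ⟨t, rfl⟩ := (overPtEquiv T).symm.surjective q
    show ptOver t ∈ Set.range _
    let Ω := AlgebraicClosure (T.left.residueField t)
    let j : Spec (CommRingCat.of Ω) ⟶ T.left :=
      Spec.map (CommRingCat.ofHom (algebraMap (T.left.residueField t) Ω)) ≫ T.left.fromSpecResidueField t
    let s := j ≫ T.hom
    let g : Over.mk s ⟶ T := Over.homMk j rfl
    obtain ⟨b, hb, m, hm⟩ := exists_over hg (rfl : 𝒳.p.obj a = T) g
    have hpm : 𝒳.p.map (m ≫ φ) = 𝒳.p.map m := by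
      obtain ⟨e, he⟩ := hφ.eq
      rw [Functor.map_comp, he]
      simp
    obtain ⟨ψ, hψ, hψc⟩ := exists_iso_factor hg (m ≫ φ) m rfl (by rw [hpm]; simp)
    have h1 : ψ.hom = 𝟙 b := H Ω s b hb m ψ.hom hψ hψc
    have h2 : m = m ≫ φ := by rw [← hψc, h1, Category.id_comp]
    let μ : n.obj b ⟶ z := ⟨m, (Category.id_comp m).trans h2⟩
    let o : (FibCat.overCat T).obj := Over.mk g
    let ν : y.obj o ⟶ z := y.map (Over.homMk g (Category.comp_id _) : o ⟶ idObj T) ≫ k.hom
    obtain ⟨i, hi, -⟩ := exists_iso_factor gI μ ν (hb.trans (y.w_obj o).symm) (by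
      have h3 : (FibCat.inertia (FibCat.toSelf 𝒳)).p.map μ = 𝒳.p.map m := rfl
      obtain ⟨e, he⟩ := hk.eq
      rw [h3, hm, Functor.map_comp, he, p_map_map]
      simp only [Category.assoc, eqToHom_trans_assoc, eqToHom_trans]
      rfl)
    let p₁ : FPt (FibCat.overCat T) := { K := Ω, str := s, obj := o, lies := rfl }
    let p₂ : FPt 𝒳 := { K := Ω, str := s, obj := b, lies := hb }
    obtain ⟨w, hw, -⟩ := exists_points_fp hg gI hT n y (Points.mk p₁) (Points.mk p₂)
      (mk_eq_of_hom (p := p₁.map y) (q := p₂.map n) i.inv)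
    refine ⟨w, hw.trans ?_⟩
    exact (ptOver_of_hom T t s g (by
      show j (IsLocalRing.closedPoint Ω) = t
      exact T.left.fromSpecResidueField_apply t _)).symm
  obtain ⟨F, e, he, hoi⟩ := neutral_openImm hI T y
  let P := BasedFunctor.comp e (FibCat.fpFst y n)
  let q := AlgSt.spMapOfOver P
  have hs : AlgSp.IsSurjectiveMor q := (surjective_spMapOfOver_iff _).2
    (isSurjective_comp (isSurjective_of_isEquivOver he) hsurj)
  have : IsIso q := Groth.L23.isIso_of_openImmersion_surjective hoi hs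
  have i₀ : P ≅ BasedFunctor.comp (ofSpMap q) (toOverCat T) :=
    eqToIso (show P = BasedFunctor.comp (BasedFunctor.comp P (ofOverCat T)) (toOverCat T) from rfl) ≪≫
      whiskerR (isoOfSpMap (BasedFunctor.comp P (ofOverCat T))) (toOverCat T)
  have hP : FibCat.IsEquivOver P :=
    isEquivOver_congr i₀.symm (isEquivOver_comp (ofSpMap_isEquivOver q) (toOverCat_isEquivOver T))
  obtain ⟨c, hc, -, ⟨ic⟩⟩ := exists_inverse he
  have hfst : FibCat.IsEquivOver (FibCat.fpFst y n) :=
    isEquivOver_congr (show BasedFunctor.comp c P ≅ FibCat.fpFst y n from whiskerR ic (FibCat.fpFst y n))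
      (isEquivOver_comp hc hP)
  obtain ⟨ξ, j, hj⟩ := eqv_exists_overId hfst (idObj T)
  let r : z ≅ n.obj ξ.obj.snd := k.symm ≪≫ y.toFunctor.mapIso j.symm ≪≫ ξ.obj.iso
  have hc' : φ ≫ r.hom.hom = r.hom.hom ≫ 𝟙 _ := r.hom.comm
  have : IsIso r.hom.hom :=
    ⟨r.inv.hom, congrArg (fun t => t.hom) r.hom_inv_id, congrArg (fun t => t.hom) r.inv_hom_id⟩
  rw [Category.comp_id] at hc'
  exact (cancel_mono r.hom.hom).1 (hc'.trans (Category.id_comp _).symm)

end Groth.L24.TrivStab
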