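import Groth.Agent.L24.St.InertiaDM
import Groth.Agent.L24.St.InertiaSep
import Groth.Agent.L25.Unramified

/-!
Inertia is unramified when the stabilizers of all field-valued points are trivial.
-/

set_option autoImplicit false
set_option backward.isDefEq.respectTransparency false
set_option backward.isDefEq.respectTransparency.types false

universe u

open CategoryTheory CategoryTheory.Limits AlgebraicGeometry Opposite AlgSt

noncomputable section

namespace Groth.L24.TrivStab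

open Groth.L24.St

variable {S : Scheme.{u}} {𝒳 : AlgSt.Cat S}

/-- Two sections of the inertia over a scheme on which the object has no automorphisms are equal. -/
theorem sec_eq {T : Over S} (y : FibCat.overCat T ⥤ᵇ 𝒳) {F : AlgSp.Sp S}
    (e : ofSp F ⥤ᵇ FibCat.fp y (FibCat.inertiaToBase (FibCat.toSelf 𝒳))) (he : FibCat.IsEquivOver e)
    {Z : Over S} (g : Z ⟶ T)
    (hZ : ∀ (c : 𝒳.obj), (c ⟶ y.obj (Over.mk g)) → ∀ ψ : c ⟶ c, OverId ψ → ψ = 𝟙 c)
    (a b : F.obj.obj (op Z))
    (ha : secHom (BasedFunctor.comp e (FibCat.fpFst y (FibCat.inertiaToBase (FibCat.toSelf 𝒳)))) ⟨Z, a⟩ = g)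
    (hb : secHom (BasedFunctor.comp e (FibCat.fpFst y (FibCat.inertiaToBase (FibCat.toSelf 𝒳)))) ⟨Z, b⟩ = g) :
    a = b := by
  let ι := FibCat.inertiaToBase (FibCat.toSelf 𝒳)
  let Φ := BasedFunctor.comp e (FibCat.fpFst y ι)
  let oa : (ofSp F).obj := ⟨Z, a⟩
  let ob : (ofSp F).obj := ⟨Z, b⟩
  let μa : (e.obj oa).obj.fst ≅ (Over.mk g : Over T) := Over.isoMk (eqToIso (Φ.w_obj oa)) (by
    show eqToHom (Φ.w_obj oa) ≫ g = (Φ.obj oa).hom
    rw [← ha, secHom, eqToHom_trans_assoc, eqToHom_refl, Category.id_comp])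
  let μb : (e.obj ob).obj.fst ≅ (Over.mk g : Over T) := Over.isoMk (eqToIso (Φ.w_obj ob)) (by
    show eqToHom (Φ.w_obj ob) ≫ g = (Φ.obj ob).hom
    rw [← hb, secHom, eqToHom_trans_assoc, eqToHom_refl, Category.id_comp])
  let za := (e.obj oa).obj.snd
  let zb := (e.obj ob).obj.snd
  let ja : y.obj (e.obj oa).obj.fst ≅ za.pt := (e.obj oa).obj.iso
  let jb : y.obj (e.obj ob).obj.fst ≅ zb.pt := (e.obj ob).obj.iso
  have hza : za.aut.hom = 𝟙 za.pt := hZ za.pt (ja.inv ≫ y.map μa.hom) _ (inertia_aut_lift' za)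
  have hzb : zb.aut.hom = 𝟙 zb.pt := hZ zb.pt (jb.inv ≫ y.map μb.hom) _ (inertia_aut_lift' zb)
  let σ : (e.obj oa).obj.fst ≅ (e.obj ob).obj.fst := μa ≪≫ μb.symm
  let npt : za.pt ≅ zb.pt := ja.symm ≪≫ y.toFunctor.mapIso σ ≪≫ jb
  let n : za ≅ zb :=
    { hom := ⟨npt.hom, by rw [hza, hzb, Category.id_comp, Category.comp_id]⟩
      inv := ⟨npt.inv, by rw [hza, hzb, Category.id_comp, Category.comp_id]⟩
      hom_inv_id := FibCat.InertiaObj.hom_ext npt.hom_inv_id
      inv_hom_id := FibCat.InertiaObj.hom_ext npt.inv_hom_id }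
  let i : e.obj oa ≅ e.obj ob := fpIsoMk σ n (by
    show y.map σ.hom ≫ jb.hom = ja.hom ≫ ja.inv ≫ y.map σ.hom ≫ jb.hom
    simp)
  have hσ : OverId σ.hom := by
    refine OverId.of_eq ((Φ.w_obj oa).trans (Φ.w_obj ob).symm) ?_
    show (μa.hom ≫ μb.inv).left = _
    rw [Over.comp_left, show μa.hom.left = eqToHom (Φ.w_obj oa) from rfl,
      show μb.inv.left = eqToHom (Φ.w_obj ob).symm from rfl, eqToHom_trans]
  have hi : OverId i.hom := overId_fp _ hσ
  obtain ⟨hfull, -⟩ := eqv_fullFaithful he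
  obtain ⟨m, hm⟩ := e.toFunctor.map_surjective i.hom
  have hmid : m.hom = 𝟙 Z := by
    obtain ⟨h0, h1⟩ := hi.eq
    rw [← hm, p_map_map] at h1
    have h2 : (ofSp F).p.map m = m.hom := rfl
    rw [h2] at h1
    rw [← cancel_epi (eqToHom (e.w_obj oa)), ← cancel_mono (eqToHom (e.w_obj ob).symm)]
    simp only [Category.assoc]
    refine h1.trans ?_
    exact ((congrArg (eqToHom _ ≫ ·) (Category.id_comp _)).trans (eqToHom_trans _ _)).symm
  have := m.map_sec
  rw [hmid, op_id, CategoryTheory.Functor.map_id] at this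
  exact this.symm
where
  inertia_aut_lift' (z : (FibCat.inertia (FibCat.toSelf 𝒳)).obj) : OverId z.aut.hom :=
    inertia_aut_lift (FibCat.toSelf 𝒳) z

/-- Trivial stabilizers at field-valued points make a representing space of the inertia unramified. -/
theorem unramified_inertia
    (hl : RepByAlgSpWith (AlgSp.LocP @LocallyOfFiniteType) (FibCat.inertiaToBase (FibCat.toSelf 𝒳)))
    (H : ∀ (K : Type u) [Field K] (sk : Spec (CommRingCat.of K) ⟶ S) (b : 𝒳.obj), 𝒳.p.obj b = Over.mk sk →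
      ∀ (c : 𝒳.obj), (c ⟶ b) → ∀ ψ : c ⟶ c, OverId ψ → ψ = 𝟙 c) :
    RepByAlgSpWith (AlgSp.LocP (@LocallyOfFiniteType ⊓ @FormallyUnramified))
      (FibCat.inertiaToBase (FibCat.toSelf 𝒳)) := by
  intro T y
  obtain ⟨F, e, he, hq⟩ := hl T y
  refine ⟨F, e, he, ?_⟩
  let q := spMapOfOver (BasedFunctor.comp e (FibCat.fpFst y (FibCat.inertiaToBase (FibCat.toSelf 𝒳))))
  change AlgSp.LocP @LocallyOfFiniteType q at hq
  show AlgSp.LocP _ q
  obtain ⟨V, v, hv, hvs⟩ := F.property.atlas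
  obtain ⟨k, hk⟩ := (AlgSp.yon S).map_surjective (v ≫ q)
  have w : v ≫ q = (AlgSp.yon S).map k ≫ 𝟙 _ := by rw [Category.comp_id, hk]
  refine Groth.L23.locP_of_chart Groth.L23.etLocal_unramified hv hvs (AlgSp.repWith_id _ T) w ?_
  have hlft : LocallyOfFiniteType k.left := hq v (𝟙 _) k hv (AlgSp.repWith_id _ T) w
  refine ⟨hlft, Groth.L25.Unramified.formallyUnramified_of_fibres k.left fun t => ?_⟩
  let K := T.left.residueField t
  let K' : Over S := Over.mk (T.left.fromSpecResidueField t ≫ T.hom)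
  let g : K' ⟶ T := Over.homMk (T.left.fromSpecResidueField t) rfl
  let W : Over S := Over.mk (k.left.fiberι t ≫ V.hom)
  let h : W ⟶ K' := Over.homMk (k.left.fiberToSpecResidueField t) (by
    show _ ≫ T.left.fromSpecResidueField t ≫ T.hom = k.left.fiberι t ≫ V.hom
    rw [← Over.w k]
    exact (pullback.condition_assoc T.hom).symm)
  let π : W ⟶ V := Over.homMk (k.left.fiberι t) rfl
  have hπ : π ≫ k = h ≫ g := Over.OverMorphism.ext pullback.condition
  have hinj : ∀ {Z : Over S} (α β : Z ⟶ W), α ≫ h = β ≫ h →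
      (AlgSp.yon S).map (α ≫ π) ≫ v = (AlgSp.yon S).map (β ≫ π) ≫ v := by
    intro Z α β hαβ
    apply (AlgSp.J S).uliftYonedaEquiv.injective
    refine sec_eq y e he (α ≫ h ≫ g) (fun c m ψ hψ => ?_) _ _ ?_ ?_
    · refine H K (T.left.fromSpecResidueField t ≫ T.hom) (y.obj (Over.mk g)) (y.w_obj (Over.mk g)) c
        (m ≫ y.map (Over.homMk (α ≫ h) (Category.assoc _ _ _) : (Over.mk (α ≫ h ≫ g) : Over T) ⟶ Over.mk g)) ψ hψ
    · have := congrArg (fun x : (AlgSp.yon S).obj Z ⟶ (AlgSp.yon S).obj T => (x.hom.app (op Z) ⟨𝟙 Z⟩).down)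
        (show ((AlgSp.yon S).map (α ≫ π) ≫ v) ≫ q = (AlgSp.yon S).map (α ≫ h ≫ g) by
          rw [Category.assoc, ← hk, ← Functor.map_comp, Category.assoc, hπ])
      exact this.trans (show 𝟙 Z ≫ (α ≫ h ≫ g) = α ≫ h ≫ g from Category.id_comp _)
    · have := congrArg (fun x : (AlgSp.yon S).obj Z ⟶ (AlgSp.yon S).obj T => (x.hom.app (op Z) ⟨𝟙 Z⟩).down)
        (show ((AlgSp.yon S).map (β ≫ π) ≫ v) ≫ q = (AlgSp.yon S).map (α ≫ h ≫ g) by
          rw [Category.assoc, ← hk, ← Functor.map_comp, Category.assoc, hπ, ← Category.assoc, ← hαβ,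
            Category.assoc])
      exact this.trans (show 𝟙 Z ≫ (α ≫ h ≫ g) = α ≫ h ≫ g from Category.id_comp _)
  let u : (AlgSp.yon S).obj W ⟶ F.obj := (AlgSp.yon S).map π ≫ v
  let R := hv.1.pullback u
  let r₁ := hv.1.fst u
  let r₂ : R ⟶ W := hv.1.snd u
  have hr₂ : Etale r₂.left := hv.property_snd u
  obtain ⟨r, hr⟩ := (AlgSp.yon S).map_surjective r₁
  have hrw : (AlgSp.yon S).map r ≫ v = (AlgSp.yon S).map r₂ ≫ (AlgSp.yon S).map π ≫ v := by
    rw [hr]; exact hv.1.w u
  have hrk : r ≫ k = r₂ ≫ h ≫ g := (AlgSp.yon S).map_injective (by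
    rw [Functor.map_comp, hk, ← Category.assoc, hrw]
    simp only [Category.assoc]
    rw [← hk, ← Functor.map_comp, ← Functor.map_comp, hπ])
  let sq := IsPullback.of_hasPullback k.left (T.left.fromSpecResidueField t)
  let a₁ : R.left ⟶ W.left := sq.lift r.left (r₂ ≫ h).left (congrArg (fun x => x.left) hrk)
  have ha₁ : a₁ ≫ π.left = r.left := sq.lift_fst _ _ _
  have ha₂ : a₁ ≫ h.left = r₂.left ≫ h.left := sq.lift_snd _ _ _
  let φ : R.left ⟶ pullback h.left h.left := pullback.lift a₁ r₂.left ha₂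
  let P : Over S := Over.mk (pullback.snd h.left h.left ≫ W.hom)
  let p₁ : P ⟶ W := Over.homMk (pullback.fst h.left h.left) (by
    show _ = pullback.snd h.left h.left ≫ W.hom
    rw [← Over.w h, ← pullback.condition_assoc, Over.w h])
  let p₂ : P ⟶ W := Over.homMk (pullback.snd h.left h.left) rfl
  have hp : p₁ ≫ h = p₂ ≫ h := Over.OverMorphism.ext pullback.condition
  let ψ : P ⟶ R := hv.1.lift ((AlgSp.yon S).map (p₁ ≫ π)) p₂ (by
    rw [hinj p₁ p₂ hp, Functor.map_comp, Category.assoc])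
  have hψ₁ : ψ ≫ r = p₁ ≫ π := (AlgSp.yon S).map_injective (by
    rw [Functor.map_comp, hr]; exact hv.1.lift_fst _ _ _)
  have hψ₂ : ψ ≫ r₂ = p₂ := hv.1.lift_snd _ _ _
  have hψψ : ψ.left ≫ φ = 𝟙 _ := by
    apply pullback.hom_ext
    · rw [Category.assoc, pullback.lift_fst, Category.id_comp]
      apply sq.hom_ext
      · rw [Category.assoc]
        exact (congrArg (ψ.left ≫ ·) ha₁).trans (congrArg (fun x => x.left) hψ₁)
      · rw [Category.assoc]
        refine (congrArg (ψ.left ≫ ·) ha₂).trans ?_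
        exact (congrArg (fun x => (x ≫ h).left) hψ₂).trans (congrArg (fun x => x.left) hp).symm
    · rw [Category.assoc, pullback.lift_snd, Category.id_comp]
      exact congrArg (fun x => x.left) hψ₂
  let φ' : R ⟶ P := Over.homMk φ (by
    show φ ≫ pullback.snd h.left h.left ≫ W.hom = R.hom
    rw [pullback.lift_snd_assoc, Over.w r₂])
  have hφψ : φ' ≫ ψ = 𝟙 R := by
    apply hv.1.hom_ext
    · rw [Functor.map_comp, Category.assoc, hv.1.lift_fst, ← Functor.map_comp, CategoryTheory.Functor.map_id,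
        Category.id_comp]
      refine Eq.trans ?_ hr
      congr 1
      apply Over.OverMorphism.ext
      show φ ≫ pullback.fst h.left h.left ≫ π.left = r.left
      rw [pullback.lift_fst_assoc]
      exact ha₁
    · rw [Category.assoc, hψ₂, Category.id_comp]
      apply Over.OverMorphism.ext
      exact pullback.lift_snd _ _ _
  have : IsIso φ := ⟨ψ.left, congrArg (fun x => x.left) hφψ, hψψ⟩
  have het : Etale (pullback.snd h.left h.left) := by
    have h1 : φ ≫ pullback.snd h.left h.left = r₂.left := pullback.lift_snd _ _ _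
    exact (MorphismProperty.cancel_left_of_respectsIso @Etale φ _).1 (h1 ▸ hr₂)
  have hh : LocallyOfFiniteType (k.left.fiberToSpecResidueField t) :=
    MorphismProperty.pullback_snd _ _ hlft
  exact fu_of_pullback_self _ (show FormallyUnramified (pullback.snd h.left h.left) from inferInstance)

end Groth.L24.TrivStab
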